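import Mathlib

/-!
# Almost surjectivity of maps to truncated modules over a discrete valuation ring
-/

universe u

namespace Groth.CohC3.Thick

variable {R : Type u} [CommRing R] [IsDomain R] [IsDiscreteValuationRing R] {ϖ : R}
  {M N : Type u} [AddCommGroup M] [Module R M] [Module.Finite R M] [AddCommGroup N] [Module R N]

/-- If `ϖ^n N = 0`, the kernel of `P : M → N` is nearly `ϖ^n M` and a multiple `ϖ^c N` is spanned by
at most rank `M` elements, then the image of `P` contains a bounded multiple of `N`. -/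
theorem pow_smul_mem_range (hϖ : Irreducible ϖ) (P : M →ₗ[R] N) {a c n d : ℕ}
    (hN : ∀ x : N, ϖ ^ n • x = 0) (hP : ∀ m, P m = 0 → ∃ t, ϖ ^ a • m = ϖ ^ n • t)
    (ι : (Fin d → R) →ₗ[R] M) (hι : Function.Injective ι) (q : Fin d → N)
    (hq : ∀ x : N, ϖ ^ c • x ∈ Submodule.span R (Set.range q)) (x : N) :
    ϖ ^ (a + 2 * c) • x ∈ LinearMap.range P := by
  classical
  rcases Nat.lt_or_ge (a + c) n with hn | hn
  swap
  · obtain ⟨j, hj⟩ := Nat.exists_eq_add_of_le (show n ≤ a + 2 * c by omega)
    rw [hj, add_comm n, pow_add, mul_smul, hN, smul_zero]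
    exact zero_mem _
  obtain ⟨m, rfl, hm⟩ : ∃ m, n = a + c + m ∧ 0 < m := ⟨n - (a + c), by omega, by omega⟩
  let T := Submodule.torsion R M
  let b := Module.Free.chooseBasis R (M ⧸ T)
  let J := Module.Free.ChooseBasisIndex R (M ⧸ T)
  choose lf hlf using fun j : J => T.mkQ_surjective (b j)
  let φ : (J → R) →ₗ[R] M := Fintype.linearCombination R lf
  have hφ : ∀ v : J → R, ⇑(b.repr (T.mkQ (φ v))) = v := fun v => by
    have : T.mkQ (φ v) = ∑ j, v j • b j := by
      simp only [φ, Fintype.linearCombination_apply, map_sum, map_smul, hlf]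
    rw [this, b.repr_sum_self]
  have hd : d ≤ Fintype.card J := by
    have hinj : Function.Injective (T.mkQ.comp ι) := by
      rw [← LinearMap.ker_eq_bot, LinearMap.ker_eq_bot']
      intro v hv
      obtain ⟨⟨r, hr⟩, hrv⟩ := (Submodule.Quotient.mk_eq_zero T).1 hv
      have h0 : ι (r • v) = 0 := (map_smul ι r v).trans hrv
      exact (smul_eq_zero.1 (hι (h0.trans (map_zero ι).symm))).resolve_left (nonZeroDivisors.ne_zero hr)
    have h := LinearMap.finrank_le_finrank_of_injective hinj
    rwa [Module.finrank_fin_fun, Module.finrank_eq_card_basis b] at h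
  let f : Fin d → J := fun i => (Fintype.equivFin J).symm (Fin.castLE hd i)
  have hf : Function.Injective f := fun i j h => Fin.castLE_injective hd (Equiv.injective _ h)
  let π : (J → R) →ₗ[R] N := Fintype.linearCombination R (Function.extend f q 0)
  have hπ : ∀ y : N, ∃ w, π w = ϖ ^ c • y := fun y => by
    refine (Submodule.span_le (p := LinearMap.range π)).2 ?_ (hq y)
    rintro _ ⟨i, rfl⟩
    exact ⟨Pi.single (f i) 1, by
      simp [π, Fintype.linearCombination_apply_single, hf.extend_apply]⟩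
  choose Ac hAc using fun j : J => hπ (P (lf j))
  let A : (J → R) →ₗ[R] (J → R) := Fintype.linearCombination R Ac
  have hA : ∀ v, π (A v) = ϖ ^ c • P (φ v) := fun v => by
    simp only [A, φ, Fintype.linearCombination_apply, map_sum, map_smul, hAc, Finset.smul_sum]
    exact Finset.sum_congr rfl fun j _ => (smul_comm _ _ _)
  have key : ∀ v w, A v = ϖ ^ (a + c + m) • w → ∃ v', v = ϖ ^ m • v' := by
    intro v w h
    have h0 : ϖ ^ c • P (φ v) = 0 := by rw [← hA, h, map_smul, hN]
    obtain ⟨t, ht⟩ := hP (ϖ ^ c • φ v) (by rw [map_smul, h0])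
    refine ⟨b.repr (T.mkQ t), ?_⟩
    have ht' := congrArg (fun u => ⇑(b.repr (T.mkQ u))) ht
    simp only [map_smul, Finsupp.coe_smul, hφ] at ht'
    rw [← mul_smul, ← pow_add, pow_add ϖ (a + c) m, mul_smul] at ht'
    exact smul_right_injective (J → R) (pow_ne_zero _ hϖ.ne_zero) ht'
  have hAinj : Function.Injective A := by
    rw [← LinearMap.ker_eq_bot, LinearMap.ker_eq_bot']
    intro v hv
    have hdiv : ∀ k : ℕ, ∀ v, A v = 0 → ∀ j, ϖ ^ k ∣ v j := by
      intro k
      induction k with
      | zero => simp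
      | succ k ih =>
        intro v hv j
        obtain ⟨v', hv'⟩ := key v 0 (by rw [hv, smul_zero])
        subst hv'
        rw [map_smul, smul_eq_zero] at hv
        have h' := ih v' (hv.resolve_left (pow_ne_zero _ hϖ.ne_zero)) j
        rw [Pi.smul_apply, smul_eq_mul, pow_succ']
        exact mul_dvd_mul (dvd_pow_self ϖ (by omega)) h'
    funext j
    by_contra hne
    obtain ⟨k, u, hu⟩ := IsDiscreteValuationRing.eq_unit_mul_pow_irreducible hne hϖ
    have h := hdiv (k + 1) v hv j
    rw [hu] at h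
    have h2 : ϖ ^ (k + 1) ∣ ϖ ^ k := (Units.dvd_mul_left).1 h
    have := (pow_dvd_pow_iff hϖ.ne_zero hϖ.not_isUnit).1 h2
    omega
  have hdet : LinearMap.det A ≠ 0 := fun h => by
    have := LinearMap.bot_lt_ker_of_det_eq_zero h
    rw [LinearMap.ker_eq_bot.2 hAinj] at this
    exact lt_irrefl _ this
  obtain ⟨k, u, hk⟩ := IsDiscreteValuationRing.eq_unit_mul_pow_irreducible hdet hϖ
  have hsurj : ∀ k w, ϖ ^ k • w ∈ LinearMap.range A → ϖ ^ (a + c) • w ∈ LinearMap.range A := by
    intro k
    induction k using Nat.strongRecOn with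
    | ind k ih =>
      rintro w ⟨v, hv⟩
      rcases Nat.lt_or_ge (a + c + m) k with hlt | hle
      · obtain ⟨v', rfl⟩ := key v (ϖ ^ (k - (a + c + m)) • w) (by
          rw [hv, ← mul_smul, ← pow_add, show a + c + m + (k - (a + c + m)) = k by omega])
        refine ih (k - m) (by omega) w ⟨v', smul_right_injective (J → R) (pow_ne_zero m hϖ.ne_zero) ?_⟩
        change ϖ ^ m • A v' = ϖ ^ m • (ϖ ^ (k - m) • w)
        rw [← map_smul, hv, ← mul_smul, ← pow_add, show m + (k - m) = k by omega]
      · obtain ⟨v', hv'⟩ := key (ϖ ^ (a + c + m - k) • v) w (by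
          rw [map_smul, hv, ← mul_smul, ← pow_add, show a + c + m - k + k = a + c + m by omega])
        refine ⟨v', smul_right_injective (J → R) (pow_ne_zero m hϖ.ne_zero) ?_⟩
        change ϖ ^ m • A v' = ϖ ^ m • (ϖ ^ (a + c) • w)
        rw [← map_smul, ← hv', map_smul, hv, ← mul_smul, ← mul_smul, ← pow_add, ← pow_add]
        congr 2
        omega
  obtain ⟨w, hw⟩ := hπ x
  obtain ⟨v, hv⟩ := hsurj k w (by
    have hadj : ∀ w : J → R, LinearMap.det A • w ∈ LinearMap.range A := fun w => by
      refine ⟨((LinearMap.toMatrix' A).adjugate).mulVec w, ?_⟩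
      rw [← LinearMap.det_toMatrix', ← LinearMap.toMatrix'_mulVec, Matrix.mulVec_mulVec,
        Matrix.mul_adjugate, Matrix.smul_mulVec, Matrix.one_mulVec]
    have h := Submodule.smul_mem _ ((↑u⁻¹ : R)) (hadj w)
    rwa [hk, ← mul_smul, ← mul_assoc, Units.inv_mul, one_mul] at h)
  refine ⟨ϖ ^ c • φ v, ?_⟩
  rw [map_smul, ← hA, hv, map_smul, hw, ← mul_smul, ← pow_add, two_mul, add_assoc]

end Groth.CohC3.Thick
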