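import Groth.Agent.CohC3.Thickening.Sections
import Groth.Agent.Pi1Tame.AbsExtend
import Groth.Agent.SpecFerrand.BasisTools
import Groth.Agent.QCohMod.QCQS

/-!
# Bases on the generic fibre
-/

universe u

open CategoryTheory CategoryTheory.Limits AlgebraicGeometry Opposite TopologicalSpace
open Groth.PicAux (Basis' pullSec res resX)

set_option maxHeartbeats 800000
set_option backward.isDefEq.respectTransparency false
set_option backward.defeqAttrib.useBackward true
set_option backward.isDefEq.respectTransparency.types false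

namespace Groth.CohC3.Thick

variable {R : Type u} [CommRing R] {X : Scheme.{u}}

/-- The preimage of a basic open of the base. -/
theorem preimage_specBasicOpen [X.Over (Spec (CommRingCat.of R))] (a : R) :
    (X ↘ Spec (CommRingCat.of R)) ⁻¹ᵁ (PrimeSpectrum.basicOpen a) =
      X.basicOpen (baseApp X ⊤ a) := by
  refine (congrArg ((X ↘ Spec (CommRingCat.of R)) ⁻¹ᵁ ·)
    (basicOpen_eq_of_affine (R := CommRingCat.of R) a).symm).trans ?_
  rw [Scheme.preimage_basicOpen_top]
  congr 1
  simp [baseApp, Coh.resTop, Coh.toGlobal]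
  rfl

/-- The generic fibre over a discrete valuation ring is the open set where a uniformizer is
invertible. -/
theorem isOpenImmersion_generic [IsDomain R] [IsDiscreteValuationRing R]
    [X.Over (Spec (CommRingCat.of R))] {ϖ : R} (hϖ : Irreducible ϖ) :
    ∃ _ : IsOpenImmersion (pullback.fst (X ↘ Spec (CommRingCat.of R))
        (Spec.map (CommRingCat.ofHom (algebraMap R (FractionRing R))))),
      (pullback.fst (X ↘ Spec (CommRingCat.of R))
        (Spec.map (CommRingCat.ofHom (algebraMap R (FractionRing R))))).opensRange =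
        X.basicOpen (baseApp X ⊤ ϖ) := by
  have := Groth.Pi1Tame.isLocalization_away (K := FractionRing R) hϖ
  have : IsOpenImmersion (Spec.map (CommRingCat.ofHom (algebraMap R (FractionRing R)))) :=
    IsOpenImmersion.of_isLocalization ϖ
  refine ⟨inferInstance, ?_⟩
  rw [Scheme.Hom.opensRange_pullbackFst, ← preimage_specBasicOpen]
  congr 1
  exact Opens.ext (PrimeSpectrum.localization_away_comap_range (FractionRing R) ϖ)

/-- A basis of the pullback along an open immersion gives a basis over its image. -/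
theorem exists_basis_opensRange {Y : Scheme.{u}} (g : Y ⟶ X) [IsOpenImmersion g] (E : X.Modules)
    {r : ℕ} {σ : Fin r → Γ((Scheme.Modules.pullback g).obj E, (⊤ : Y.Opens))}
    (hσ : Basis' ((Scheme.Modules.pullback g).obj E) ⊤ σ) {W : X.Opens} (hW : g.opensRange = W) :
    ∃ s : Fin r → Γ(E, W), Basis' E W s := by
  subst hW
  let e := g.isoOpensRange
  have hι : e.inv ≫ g = g.opensRange.ι := by simp [e]
  have h1 := hσ.pull e.inv
  let φ : (Scheme.Modules.pullback e.inv).obj ((Scheme.Modules.pullback g).obj E) ≅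
      E.restrict g.opensRange.ι :=
    (Scheme.Modules.pullbackComp e.inv g).app E ≪≫ (Scheme.Modules.pullbackCongr hι).app E ≪≫
      ((Scheme.Modules.restrictFunctorIsoPullback g.opensRange.ι).app E).symm
  have h2 := h1.map φ.hom
  let t : Fin r → Γ(E, g.opensRange.ι ''ᵁ ⊤) := fun i =>
    res (E.restrict g.opensRange.ι) (le_refl (⊤ : (g.opensRange : Scheme.{u}).Opens))
      (φ.hom.app _ (pullSec e.inv _ (σ i)))
  refine ⟨fun i => res E (Scheme.Opens.ι_image_top _).ge (t i), ?_⟩
  rw [Groth.PicAux.basis'_iff_restrict]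
  refine (congrArg (Basis' _ _) (funext fun i => ?_)).mpr h2
  exact (Groth.PicAux.res_res (M := E) _ _ _).trans
    ((Groth.PicAux.res_self _ _).trans (Groth.PicAux.res_self (M := E.restrict g.opensRange.ι) _ _))

/-- Global sections extending a multiple of a basis of the generic fibre. -/
theorem exists_global_generic [X.Over (Spec (CommRingCat.of R))] [CompactSpace X]
    [QuasiSeparatedSpace X] {ϖ : R} (E : X.Modules) [E.IsQuasicoherent] {r : ℕ}
    {s : Fin r → Γ(E, X.basicOpen (baseApp X ⊤ ϖ))}
    (hs : Basis' E (X.basicOpen (baseApp X ⊤ ϖ)) s) :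
    ∃ u : Fin r → Γ(E, (⊤ : X.Opens)), ∀ f : Fin r → Γ(X, ⊤), ∑ l, f l • u l = 0 →
      ∀ l, ∃ k : ℕ, baseApp X ⊤ (ϖ ^ k) * f l = 0 := by
  let b := baseApp X (⊤ : X.Opens) ϖ
  have hc : IsCompact ((⊤ : X.Opens) : Set X) := isCompact_univ
  choose k u hu using fun l =>
    Groth.QCohMod.exists_pow_smul_eq_res_of_qcqs E hc isQuasiSeparated_univ b (s l)
  refine ⟨u, fun f hf l => ?_⟩
  have h0 : ∑ m, (resX X (X.basicOpen_le b) (f m) * resX X (X.basicOpen_le b) b ^ k m) •
      res E le_rfl (s m) = 0 := by
    have := congrArg (QCohMod.res E (X.basicOpen_le b)) hf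
    rw [map_sum, map_zero] at this
    refine Eq.trans (Finset.sum_congr rfl fun m _ => ?_) this
    rw [QCohMod.res_smul, hu, mul_smul, Groth.PicAux.res_self]
    rfl
  have h1 := congrFun ((hs (X.basicOpen b) le_rfl).1 (a₁ := fun m =>
    resX X (X.basicOpen_le b) (f m) * resX X (X.basicOpen_le b) b ^ k m) (a₂ := 0)
    (h0.trans (show (0 : Γ(E, X.basicOpen b)) =
      ∑ m, (0 : Fin r → Γ(X, X.basicOpen b)) m • res E le_rfl (s m) by simp))) l
  have hub : IsUnit (resX X (X.basicOpen_le b) b) :=
    RingedSpace.isUnit_res_basicOpen X.toRingedSpace b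
  obtain ⟨m, hm⟩ := exists_pow_mul_eq_zero_of_res_basicOpen_eq_zero_of_isCompact X (U := ⊤) hc
    (f l) b (((hub.pow (k l)).mul_left_eq_zero).1 h1)
  exact ⟨m, by rw [map_pow]; exact hm⟩

end Groth.CohC3.Thick
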