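import Groth.Agent.CohC3.Thickening.Sections
import Groth.Agent.CohC3.Thickening.Algebra
import Groth.Agent.PropsBasic.LocFree
import Groth.Agent.QCohMod.Sections

/-!
# Lifting bases from thick special fibres
-/

universe u

open CategoryTheory CategoryTheory.Limits AlgebraicGeometry Opposite TopologicalSpace

set_option maxHeartbeats 800000
set_option backward.isDefEq.respectTransparency false
set_option backward.defeqAttrib.useBackward true
set_option backward.isDefEq.respectTransparency.types false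

namespace Groth.CohC3.Thick

variable {R : Type u} [CommRing R] {X : Scheme.{u}} [X.Over (Spec (CommRingCat.of R))]

/-- Sections as modules over the base ring. -/
@[reducible] noncomputable def secModule (M : X.Modules) (W : X.Opens) : Module R Γ(M, W) :=
  Module.compHom _ (baseApp X W)

variable [IsNoetherianRing R] [IsProper (X ↘ Spec (CommRingCat.of R))]

/-- Global sections of a coherent module on a proper scheme are finite over the base. -/
theorem finite_sections_top {M : X.Modules} (hM : Coh.IsCoh M) :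
    letI := secModule (R := R) M (⊤ : X.Opens)
    Module.Finite R Γ(M, (⊤ : X.Opens)) := by
  letI := secModule (R := R) M (⊤ : X.Opens)
  letI : (Spec (CommRingCat.of R)).Over (Spec (CommRingCat.of R)) := ⟨𝟙 _⟩
  let f := X ↘ Spec (CommRingCat.of R)
  obtain ⟨hfin, -⟩ := exists_push_bounds (A := R) (J := (⊥ : Ideal R)) f (Category.comp_id _) hM
    (U := ⊤) (isAffineOpen_top _)
  obtain ⟨s, hs⟩ := hfin.fg_top
  let s' : Finset Γ(M, (⊤ : X.Opens)) := s
  refine ⟨⟨s', eq_top_iff.2 fun x _ => ?_⟩⟩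
  suffices H : ∀ y : Γ((Scheme.Modules.pushforward f).obj M, (⊤ : (Spec (CommRingCat.of R)).Opens)),
      y ∈ Submodule.span Γ(Spec (CommRingCat.of R), ⊤) (s : Set _) →
      (show Γ(M, (⊤ : X.Opens)) from y) ∈ Submodule.span R (s' : Set Γ(M, (⊤ : X.Opens))) from
    H x (hs.ge trivial)
  intro y hy
  induction hy using Submodule.span_induction with
  | mem z hz => exact Submodule.subset_span hz
  | zero => exact zero_mem _
  | add z z' _ _ h h' => exact add_mem h h'
  | smul r z _ h =>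
    obtain ⟨a, rfl⟩ : ∃ a, baseApp (Spec (CommRingCat.of R)) ⊤ a = r := by
      refine ⟨(Scheme.ΓSpecIso (CommRingCat.of R)).hom r, ?_⟩
      change (Spec (CommRingCat.of R)).presheaf.map _
        (((Scheme.ΓSpecIso (CommRingCat.of R)).inv ≫ (𝟙 (Spec (CommRingCat.of R)) :
          Spec (CommRingCat.of R) ⟶ _).appTop) ((Scheme.ΓSpecIso (CommRingCat.of R)).hom r)) = r
      simp
    change f.app ⊤ (baseApp (Spec (CommRingCat.of R)) ⊤ a) • (show Γ(M, f ⁻¹ᵁ ⊤) from z) ∈ _
    rw [baseApp_preimage (Category.comp_id f)]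
    exact Submodule.smul_mem _ a h

omit [IsNoetherianRing R] [IsProper (X ↘ Spec (CommRingCat.of R))] in
/-- A torsion bound on an affine cover holds on every open. -/
theorem tBound_apply {t : R} {Q : X.Modules} [Q.IsQuasicoherent] {c : ℕ} (h : TBound t Q c)
    {W : X.Opens} (j : ℕ) (x : Γ(Q, W)) (hx : baseApp X W (t ^ (j + c)) • x = 0) :
    baseApp X W (t ^ c) • x = 0 := by
  choose U hyU hU using fun y : W => h y.1
  choose g hyg hgW using fun y : W =>
    Groth.QCohMod.exists_basicOpen_mem (U y).2 (hyU y) y.2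
  refine TopCat.Sheaf.eq_of_locally_eq' ⟨Q.presheaf, Q.isSheaf⟩ (fun y : W => X.basicOpen (g y)) W
    (fun y => homOfLE (hgW y)) (fun y hy => Opens.mem_iSup.2 ⟨⟨y, hy⟩, hyg ⟨y, hy⟩⟩) _ _ fun y => ?_
  change QCohMod.res Q (hgW y) _ = QCohMod.res Q (hgW y) 0
  rw [map_zero, QCohMod.res_smul, baseApp_res]
  obtain ⟨k, q, hq⟩ := Groth.QCohMod.exists_pow_smul_eq_res Q (U y).2 (g y) (QCohMod.res Q (hgW y) x)
  obtain ⟨l, hl⟩ := Groth.QCohMod.exists_pow_smul_eq_zero Q (U y).2 (g y)
    (baseApp X (U y).1 (t ^ (j + c)) • q) (by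
      have := congrArg (QCohMod.res Q (hgW y)) hx
      rw [QCohMod.res_smul, baseApp_res, map_zero] at this
      rw [QCohMod.res_smul, baseApp_res, hq, smul_comm, this, smul_zero])
  rw [smul_comm] at hl
  have h0 := congrArg (QCohMod.res Q (X.basicOpen_le (g y))) (hU y j (g y ^ l • q) hl)
  rw [map_zero, QCohMod.res_smul, baseApp_res, QCohMod.res_smul, hq, map_pow (QCohMod.resFun X _),
    ← mul_smul _ _ (QCohMod.res Q (hgW y) x), ← pow_add, smul_comm] at h0
  have hu : IsUnit (QCohMod.resFun X (X.basicOpen_le (g y)) (g y)) :=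
    RingedSpace.isUnit_res_basicOpen X.toRingedSpace (g y)
  exact ((hu.pow (l + k)).smul_eq_zero).1 h0

/-- A uniform torsion bound for finite locally free modules. -/
theorem exists_torsion_bound (ϖ : R) :
    ∃ a, ∀ (E : X.Modules), FlatMod.IsFinLocFree E → ∀ (W : X.Opens), IsAffineOpen W →
      ∀ (j : ℕ) (x : Γ(E, W)), baseApp X W (ϖ ^ j) • x = 0 → baseApp X W (ϖ ^ a) • x = 0 := by
  have : AlgebraicGeometry.IsNoetherian X := isNoetherian_of_proper R X
  have hO : Coh.IsCoh (Coh.structureModule X) := Groth.QCohMod.isCoh_unit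
  obtain ⟨a, ha⟩ := exists_tBound (t := ϖ) hO
  refine ⟨a, fun E hE W hW j x hx => ?_⟩
  have := (Groth.LocFree.finite_projective_sections hE hW).2
  obtain ⟨s, hs⟩ := (Module.projective_def (R := Γ(X, W)) (P := Γ(E, W))).1 this
  have hsinj := hs.injective
  refine hsinj ?_
  rw [map_zero, map_smul]
  ext l
  have hl : baseApp X W (ϖ ^ j) * s x l = 0 := by
    have := congrArg (fun t => t l) (congrArg s hx)
    simpa using this
  have hl' : baseApp X W (ϖ ^ (j + a)) * s x l = 0 := by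
    rw [pow_add, map_mul, mul_comm _ (baseApp X W (ϖ ^ a)), mul_assoc, hl, mul_zero]
  have := hO.1
  exact tBound_apply ha (Q := Coh.structureModule X) j
    (show Γ(Coh.structureModule X, W) from s x l) hl'

variable [IsDomain R] [IsDiscreteValuationRing R] {ι : Type u} [Finite ι] (U : ι → X.Opens)

/-- A basis modulo a high power of `ϖ` lifts to global sections modulo a slightly lower power, if
there are as many global sections independent up to torsion. -/
theorem exists_lift_basis {ϖ : R} (hϖ : Irreducible ϖ) (hU : ∀ i, IsAffineOpen (U i))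
    (hU' : ∀ i k, IsAffineOpen (U i ⊓ U k)) (hcov : ⨆ i, U i = ⊤) :
    ∃ D n₀ : ℕ, ∀ (E : X.Modules), FlatMod.IsFinLocFree E → ∀ (r : ℕ)
      (u : Fin r → Γ(E, (⊤ : X.Opens))),
      (∀ f : Fin r → Γ(X, ⊤), ∑ j, f j • u j = 0 →
        ∀ j, ∃ k : ℕ, baseApp X ⊤ (ϖ ^ k) * f j = 0) →
      ∀ n, n₀ ≤ n → ∀ (e : Fin r → ∀ i, Γ(E, U i)),
      (∀ j i k, DivBy ϖ n E (QCohMod.res E (inf_le_left : U i ⊓ U k ≤ U i) (e j i) -
        QCohMod.res E (inf_le_right : U i ⊓ U k ≤ U k) (e j k))) →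
      (∀ i (z : Γ(E, U i)), ∃ cf : Fin r → Γ(X, U i), DivBy ϖ n E (z - ∑ j, cf j • e j i)) →
      (∀ i k (cf : Fin r → Γ(X, U i ⊓ U k)),
        DivBy ϖ n E (∑ j, cf j • QCohMod.res E (inf_le_left : U i ⊓ U k ≤ U i) (e j i)) →
        ∀ j, DivBy ϖ n (Coh.structureModule X) (cf j)) →
      ∃ t : Fin r → Γ(E, (⊤ : X.Opens)),
        ∀ j i, DivBy ϖ (n - D) E (QCohMod.res E le_top (t j) - e j i) := by
  classical
  let O := Coh.structureModule X
  have : AlgebraicGeometry.IsNoetherian X := isNoetherian_of_proper R X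
  have hO : Coh.IsCoh O := Groth.QCohMod.isCoh_unit
  letI iS := secModule (R := R) O (⊤ : X.Opens)
  have : Module.Finite R Γ(O, (⊤ : X.Opens)) := finite_sections_top hO
  obtain ⟨a, ha⟩ := exists_torsion_bound (X := X) ϖ
  obtain ⟨c₀, hc₀⟩ := exists_lift_bound ϖ U hU hU' hcov
  let T := Submodule.torsion R Γ(O, (⊤ : X.Opens))
  let b := Module.Free.chooseBasis R (Γ(O, (⊤ : X.Opens)) ⧸ T)
  let L := Module.Free.ChooseBasisIndex R (Γ(O, (⊤ : X.Opens)) ⧸ T)
  choose bl hbl using fun l : L => T.mkQ_surjective (b l)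
  obtain ⟨τ, hτ⟩ : ∃ τ, ∀ s ∈ T, ϖ ^ τ • s = 0 := by
    obtain ⟨g, hg⟩ := (IsNoetherian.noetherian T)
    have hg' : ∀ s ∈ g, ∃ k : ℕ, ϖ ^ k • s = 0 := fun s hs => by
      have hsT : s ∈ T := hg ▸ Submodule.subset_span hs
      obtain ⟨⟨x, hx⟩, hxs⟩ := hsT
      obtain ⟨k, w, rfl⟩ :=
        IsDiscreteValuationRing.eq_unit_mul_pow_irreducible (nonZeroDivisors.ne_zero hx) hϖ
      refine ⟨k, ?_⟩
      have h' : ((w : R) * ϖ ^ k) • s = 0 := hxs
      rw [mul_smul] at h'
      exact (IsUnit.smul_eq_zero w.isUnit).1 h'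
    choose! k hk using hg'
    refine ⟨g.sup k, fun s hs => ?_⟩
    rw [← hg] at hs
    induction hs using Submodule.span_induction with
    | mem z hz =>
      obtain ⟨d, hd⟩ := Nat.exists_eq_add_of_le (Finset.le_sup (f := k) hz)
      rw [hd, add_comm, pow_add, mul_smul, hk z hz, smul_zero]
    | zero => simp
    | add z z' _ _ h h' => rw [smul_add, h, h', add_zero]
    | smul x z _ h => rw [smul_comm, h, smul_zero]
  refine ⟨a + 2 * (c₀ + τ), a + (a + 2 * (c₀ + τ)), fun E hE r u hu n hn e hec he he' => ?_⟩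
  set D := a + 2 * (c₀ + τ) with hD
  have := KTheory.LocFree.isQCoh hE
  letI iM := secModule (R := R) E (⊤ : X.Opens)
  letI iU : ∀ i, Module R Γ(E, U i) := fun i => secModule E (U i)
  have hEcoh : Coh.IsCoh E := ⟨inferInstance, Groth.PropsBasic.LocFree.isFT_of_isFP E
    (Groth.PropsBasic.LocFree.isFP_of_isFinLocFree E hE)⟩
  have : Module.Finite R Γ(E, (⊤ : X.Opens)) := finite_sections_top hEcoh
  let K : ∀ i, Submodule R Γ(E, U i) := fun i => LinearMap.range (LinearMap.lsmul R Γ(E, U i) (ϖ ^ n))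
  have hK : ∀ i x, x ∈ K i ↔ DivBy ϖ n E x := fun i x =>
    ⟨fun ⟨y, hy⟩ => ⟨y, hy.symm⟩, fun ⟨y, hy⟩ => ⟨y, hy.symm⟩⟩
  let Compat : Submodule R (∀ i, Γ(E, U i)) :=
    { carrier := {z | ∀ i k, DivBy ϖ n E (QCohMod.res E (inf_le_left : U i ⊓ U k ≤ U i) (z i) -
        QCohMod.res E (inf_le_right : U i ⊓ U k ≤ U k) (z k))}
      add_mem' := fun {z z'} h h' i k => by
        have := (h i k).add (h' i k)
        simpa only [Pi.add_apply, map_add, add_sub_add_comm] using this
      zero_mem' := fun i k => by simpa using DivBy.zero n E _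
      smul_mem' := fun x z h i k => by
        change DivBy ϖ n E (QCohMod.res E _ (baseApp X (U i) x • z i) -
          QCohMod.res E _ (baseApp X (U k) x • z k))
        rw [QCohMod.res_smul, QCohMod.res_smul, baseApp_res, baseApp_res, ← smul_sub]
        exact (h i k).smul _ }
  let cl : Compat →ₗ[R] (∀ i, Γ(E, U i) ⧸ K i) :=
    LinearMap.pi fun i => (K i).mkQ.comp ((LinearMap.proj i).comp Compat.subtype)
  let N := LinearMap.range cl
  have resLin : ∀ i (x : R) (m : Γ(E, (⊤ : X.Opens))),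
      QCohMod.res E (le_top : U i ≤ ⊤) (x • m) = x • QCohMod.res E (le_top : U i ≤ ⊤) m :=
    fun i x m => by
      change QCohMod.res E _ (baseApp X ⊤ x • m) = baseApp X (U i) x • _
      rw [QCohMod.res_smul, baseApp_res]
  let P₀ : Γ(E, (⊤ : X.Opens)) →ₗ[R] Compat :=
    { toFun := fun m => ⟨fun i => QCohMod.res E le_top m, fun i k => by
        simp only [QCohMod.res_res, sub_self]; exact DivBy.zero n E _⟩
      map_add' := fun m m' => Subtype.ext (funext fun i => map_add _ m m')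
      map_smul' := fun x m => Subtype.ext (funext fun i => resLin i x m) }
  let P : Γ(E, (⊤ : X.Opens)) →ₗ[R] N := cl.rangeRestrict.comp P₀
  have hPker : ∀ m, P m = 0 → ∃ t, ϖ ^ a • m = ϖ ^ n • t := by
    intro m hm
    have hm' : ∀ i, DivBy ϖ n E (QCohMod.res E (le_top : U i ≤ ⊤) m) := fun i => (hK i _).1
      ((Submodule.Quotient.mk_eq_zero _).1 (congrFun (congrArg Subtype.val hm) i))
    choose y hy using hm'
    obtain ⟨t, ht⟩ := exists_glue U hcov E (fun i => baseApp X (U i) (ϖ ^ a) • y i) fun i k => by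
      rw [QCohMod.res_smul, QCohMod.res_smul, baseApp_res, baseApp_res, ← sub_eq_zero, ← smul_sub]
      refine ha E hE _ (hU' i k) n _ ?_
      rw [smul_sub, sub_eq_zero]
      have h1 := congrArg (QCohMod.res E (inf_le_left : U i ⊓ U k ≤ U i)) (hy i)
      have h2 := congrArg (QCohMod.res E (inf_le_right : U i ⊓ U k ≤ U k)) (hy k)
      rw [QCohMod.res_res, QCohMod.res_smul, baseApp_res] at h1 h2
      exact h1.symm.trans h2
    refine ⟨t, ?_⟩
    refine TopCat.Sheaf.eq_of_locally_eq' ⟨E.presheaf, E.isSheaf⟩ U ⊤ (fun i => homOfLE le_top)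
      hcov.ge _ _ fun i => ?_
    change QCohMod.res E le_top (ϖ ^ a • m) = QCohMod.res E le_top (ϖ ^ n • t)
    rw [resLin, resLin, ht i]
    change baseApp X (U i) (ϖ ^ a) • QCohMod.res E le_top m =
      baseApp X (U i) (ϖ ^ n) • (baseApp X (U i) (ϖ ^ a) • y i)
    rw [hy i, smul_comm]
  let bt : L → ∀ W : X.Opens, Γ(X, W) := fun l W => QCohMod.resFun X (le_top : W ≤ ⊤) (bl l)
  have hbt : ∀ l i k j, DivBy ϖ n E
      (QCohMod.res E (inf_le_left : U i ⊓ U k ≤ U i) (bt l (U i) • e j i) -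
        QCohMod.res E (inf_le_right : U i ⊓ U k ≤ U k) (bt l (U k) • e j k)) := fun l i k j => by
    simp only [bt, QCohMod.res_smul, Groth.QCohMod.resFun_resFun, ← smul_sub]
    exact (hec j i k).smul _
  let q₀ : Fin r × L → N := fun p =>
    cl.rangeRestrict ⟨fun i => bt p.2 (U i) • e p.1 i, fun i k => hbt p.2 i k p.1⟩
  let uι₀ : (Fin r × L → R) →ₗ[R] Γ(E, (⊤ : X.Opens)) :=
    Fintype.linearCombination R fun p => (show Γ(X, ⊤) from bl p.2) • u p.1
  have huι₀ : Function.Injective uι₀ := by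
    rw [← LinearMap.ker_eq_bot, LinearMap.ker_eq_bot']
    intro v hv
    have h := hu (fun j => ∑ l, baseApp X ⊤ (v (j, l)) * (show Γ(X, ⊤) from bl l)) (by
      rw [← hv, Fintype.linearCombination_apply, Fintype.sum_prod_type]
      refine Finset.sum_congr rfl fun j _ => ?_
      rw [Finset.sum_smul]
      exact Finset.sum_congr rfl fun l _ => mul_smul _ _ _)
    funext p
    obtain ⟨k, hk⟩ := h p.1
    have htor : (∑ l, v (p.1, l) • bl l) ∈ T :=
      ⟨⟨ϖ ^ k, mem_nonZeroDivisors_of_ne_zero (pow_ne_zero k hϖ.ne_zero)⟩, hk⟩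
    have h0 : T.mkQ (∑ l, v (p.1, l) • bl l) = 0 := (Submodule.Quotient.mk_eq_zero T).2 htor
    simp only [map_sum, map_smul, hbl] at h0
    exact Fintype.linearIndependent_iff.1 b.linearIndependent _ h0 p.2
  let eL : Fin (Fintype.card (Fin r × L)) ≃ Fin r × L := (Fintype.equivFin _).symm
  have hN : ∀ x : N, ϖ ^ n • x = 0 := fun x => Subtype.ext (funext fun i => by
    obtain ⟨w, hw⟩ := Submodule.Quotient.mk_surjective (K i) (x.1 i)
    change ϖ ^ n • x.1 i = 0
    rw [← hw, ← Submodule.Quotient.mk_smul]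
    exact (Submodule.Quotient.mk_eq_zero _).2 ⟨w, rfl⟩)
  have hq : ∀ x : N, ϖ ^ (c₀ + τ) • x ∈ Submodule.span R (Set.range (q₀ ∘ eL)) := by
    rw [Set.range_comp, eL.surjective.range_eq, Set.image_univ]
    intro x
    obtain ⟨⟨z, hz⟩, hzx⟩ := cl.surjective_rangeRestrict x
    choose cf hcf using fun i => he i (z i)
    have hcc : ∀ j i k, DivBy ϖ n O
        (QCohMod.res O (inf_le_left : U i ⊓ U k ≤ U i) (cf i j) -
          QCohMod.res O (inf_le_right : U i ⊓ U k ≤ U k) (cf k j)) := by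
      intro j i k
      refine he' i k (fun j => QCohMod.resFun X (inf_le_left : U i ⊓ U k ≤ U i) (cf i j) -
        QCohMod.resFun X (inf_le_right : U i ⊓ U k ≤ U k) (cf k j)) ?_ j
      have h1 := (hcf i).res (inf_le_left : U i ⊓ U k ≤ U i)
      have h2 := (hcf k).res (inf_le_right : U i ⊓ U k ≤ U k)
      have h3 : DivBy ϖ n E (∑ j, QCohMod.resFun X (inf_le_right : U i ⊓ U k ≤ U k) (cf k j) •
          (QCohMod.res E (inf_le_left : U i ⊓ U k ≤ U i) (e j i) -
            QCohMod.res E (inf_le_right : U i ⊓ U k ≤ U k) (e j k))) :=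
        Finset.sum_induction _ _ (fun _ _ => DivBy.add) (DivBy.zero n E _)
          fun j _ => (hec j i k).smul _
      obtain ⟨w₁, hw₁⟩ := h1
      obtain ⟨w₂, hw₂⟩ := h2
      obtain ⟨w₃, hw₃⟩ := h3
      obtain ⟨w₄, hw₄⟩ := hz i k
      refine ⟨w₄ - w₁ + w₂ - w₃, ?_⟩
      rw [smul_sub, smul_add, smul_sub, ← hw₁, ← hw₂, ← hw₃, ← hw₄]
      simp only [map_sub, map_sum, QCohMod.res_smul, sub_smul, smul_sub, Finset.sum_sub_distrib]
      abel
    choose s hs using fun j => hc₀ n (fun i => cf i j) (hcc j)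
    let v : Fin r × L → R := fun p => b.repr (T.mkQ (s p.1)) p.2
    have hv : ∀ j, ϖ ^ τ • s j = ϖ ^ τ • ∑ l, v (j, l) • bl l := fun j => by
      rw [← sub_eq_zero, ← smul_sub]
      refine hτ _ ((Submodule.Quotient.mk_eq_zero T).1 ?_)
      change T.mkQ _ = 0
      rw [map_sub, sub_eq_zero, map_sum]
      simp only [map_smul, hbl, v]
      exact (b.sum_repr _).symm
    suffices H : ϖ ^ (c₀ + τ) • x = ∑ p, (ϖ ^ τ * v p) • q₀ p by
      rw [H]
      exact Submodule.sum_mem _ fun p _ => Submodule.smul_mem _ _ (Submodule.subset_span ⟨p, rfl⟩)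
    rw [← hzx]
    refine Subtype.ext (funext fun i => ?_)
    simp only [q₀, Submodule.coe_sum, Submodule.coe_smul, Finset.sum_apply, Pi.smul_apply]
    change ϖ ^ (c₀ + τ) • (K i).mkQ (z i) =
      ∑ p, (ϖ ^ τ * v p) • (K i).mkQ (bt p.2 (U i) • e p.1 i)
    rw [← LinearMap.map_smul, Finset.sum_congr rfl fun p _ => (LinearMap.map_smul (K i).mkQ (ϖ ^ τ * v p) (bt p.2 (U i) • e p.1 i)).symm, ← map_sum, Submodule.mkQ_apply, Submodule.mkQ_apply]
    refine (Submodule.Quotient.eq _).2 ((hK i _).2 ?_)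
    have hsum : ∑ p, (ϖ ^ τ * v p) • (bt p.2 (U i) • e p.1 i) =
        ∑ j, (baseApp X (U i) (ϖ ^ τ) * QCohMod.resFun X (le_top : U i ≤ ⊤) (s j)) • e j i := by
      rw [Fintype.sum_prod_type]
      refine Finset.sum_congr rfl fun j _ => ?_
      have := congrArg (QCohMod.resFun X (le_top : U i ≤ ⊤)) (hv j)
      change QCohMod.resFun X _ (baseApp X ⊤ (ϖ ^ τ) * (show Γ(X, ⊤) from s j)) =
        QCohMod.resFun X _ (baseApp X ⊤ (ϖ ^ τ) * ∑ l, baseApp X ⊤ (v (j, l)) * (show Γ(X, ⊤) from bl l)) at this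
      simp only [map_mul, map_sum, baseApp_res] at this
      rw [map_pow] at this ⊢
      rw [this, Finset.mul_sum, Finset.sum_smul]
      refine Finset.sum_congr rfl fun l _ => ?_
      change baseApp X (U i) (ϖ ^ τ * v (j, l)) • (bt l (U i) • e j i) = _
      rw [map_mul, map_pow, smul_smul, mul_assoc]
    rw [hsum]
    obtain ⟨w, hw⟩ := hcf i
    choose g hg using fun j => hs j i
    refine ⟨baseApp X (U i) (ϖ ^ (c₀ + τ)) • w -
      ∑ j, (baseApp X (U i) (ϖ ^ τ) * (show Γ(X, U i) from g j)) • e j i, ?_⟩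
    have hz' : z i = ∑ j, cf i j • e j i + baseApp X (U i) (ϖ ^ n) • w := by
      rw [← hw]; abel
    have hg' : ∀ j, QCohMod.resFun X (le_top : U i ≤ ⊤) (s j) =
        baseApp X (U i) (ϖ ^ c₀) * cf i j + baseApp X (U i) (ϖ ^ n) * (show Γ(X, U i) from g j) :=
      fun j => sub_eq_iff_eq_add'.1 (hg j)
    change baseApp X (U i) (ϖ ^ (c₀ + τ)) • z i - _ = _
    simp only [hz', hg', smul_add, smul_sub, Finset.smul_sum, smul_smul, mul_add, add_smul,
      Finset.sum_add_distrib, pow_add, map_mul]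
    ring_nf
    abel
  have main := fun x => pow_smul_mem_range hϖ P hN hPker
    (uι₀.comp (LinearEquiv.funCongrLeft R R eL.symm).toLinearMap)
    (huι₀.comp (LinearEquiv.funCongrLeft R R eL.symm).injective) (q₀ ∘ eL) hq x
  have key : ∀ j, ∃ m : Γ(E, (⊤ : X.Opens)), ∀ i,
      DivBy ϖ n E (QCohMod.res E le_top m - baseApp X (U i) (ϖ ^ D) • e j i) := fun j => by
    obtain ⟨m, hm⟩ := main (cl.rangeRestrict ⟨e j, hec j⟩)
    exact ⟨m, fun i => (hK i _).1 ((Submodule.Quotient.eq _).1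
      (congrFun (congrArg Subtype.val hm) i))⟩
  choose m hm using key
  choose y hy using hm
  have hz : ∀ j, ∃ t : Γ(E, (⊤ : X.Opens)), ∀ i, QCohMod.res E le_top t =
      e j i + baseApp X (U i) (ϖ ^ (n - D)) • y j i := fun j => by
    refine exists_glue U hcov E _ fun i k => ?_
    simp only [map_add, QCohMod.res_smul, baseApp_res]
    obtain ⟨w, hw⟩ := hec j i k
    set b' := (baseApp X (U i ⊓ U k) : R →+* _)
    set z₁ := QCohMod.res E (inf_le_left : U i ⊓ U k ≤ U i) (e j i)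
    set z₂ := QCohMod.res E (inf_le_right : U i ⊓ U k ≤ U k) (e j k)
    set y₁ := QCohMod.res E (inf_le_left : U i ⊓ U k ≤ U i) (y j i)
    set y₂ := QCohMod.res E (inf_le_right : U i ⊓ U k ≤ U k) (y j k)
    have h1 := congrArg (QCohMod.res E (inf_le_left : U i ⊓ U k ≤ U i)) (hy j i)
    have h2 := congrArg (QCohMod.res E (inf_le_right : U i ⊓ U k ≤ U k)) (hy j k)
    simp only [map_sub, QCohMod.res_smul, QCohMod.res_res, baseApp_res] at h1 h2
    have h12 : b' (ϖ ^ D) • (z₁ - z₂) + b' (ϖ ^ n) • (y₁ - y₂) = 0 := by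
      rw [smul_sub, smul_sub, ← h1, ← h2]; abel
    have hnD : ϖ ^ n = ϖ ^ (n - D) * ϖ ^ D := by rw [← pow_add, Nat.sub_add_cancel (by omega)]
    have hna : ϖ ^ (n - D) = ϖ ^ (n - D - a) * ϖ ^ a := by
      rw [← pow_add, Nat.sub_add_cancel (by omega)]
    let δ := b' (ϖ ^ D) • w + (y₁ - y₂)
    have hδ : z₁ + b' (ϖ ^ (n - D)) • y₁ - (z₂ + b' (ϖ ^ (n - D)) • y₂) = b' (ϖ ^ (n - D)) • δ := by
      rw [smul_add, ← mul_smul, ← map_mul, ← hnD, ← hw, smul_sub]; abel
    rw [← sub_eq_zero, hδ, hna, map_mul, mul_smul, ha E hE _ (hU' i k) n δ ?_, smul_zero]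
    rw [smul_add, ← mul_smul, mul_comm, mul_smul, ← hw]
    exact h12
  choose t ht using hz
  exact ⟨t, fun j i => ⟨y j i, by rw [ht j i, add_sub_cancel_left]⟩⟩

end Groth.CohC3.Thick
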