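import Groth.Agent.CohC3.Thickening.Sections
import Groth.Agent.FlatStrata.ClosedImm
import Groth.Agent.SpecFerrand.BasisTools
import Groth.Agent.ArtfunDeform.VbLift.KerIdeal

/-!
# Bases on thick special fibres
-/

universe u

open CategoryTheory CategoryTheory.Limits AlgebraicGeometry Opposite TopologicalSpace
open Groth.PicAux (Basis' pullSec res resX pullSec_smul res_pullSec)

set_option maxHeartbeats 800000
set_option backward.isDefEq.respectTransparency false
set_option backward.defeqAttrib.useBackward true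
set_option backward.isDefEq.respectTransparency.types false

namespace Groth.CohC3.Thick

variable {R B : Type u} [CommRing R] [CommRing B] [Algebra R B] {X Xn : Scheme.{u}}
  [X.Over (Spec (CommRingCat.of R))] [Xn.Over (Spec (CommRingCat.of B))] {j : Xn ⟶ X}
  (hsq : Groth.CohBase.IsBC (A := R) (A' := B) j)
  {ϖ : R} {n : ℕ} (hB : Function.Surjective (algebraMap R B))
  (hk : RingHom.ker (algebraMap R B) = Ideal.span {ϖ ^ n})

include hsq hB hk

theorem divBy_of_pullSec_eq_zero (M : X.Modules) [M.IsQuasicoherent] {W : X.Opens}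
    (hW : IsAffineOpen W) (s : Γ(M, W)) (h : pullSec j M s = 0) : DivBy ϖ n M s := by
  obtain ⟨m, hm⟩ := Groth.FlatStrata.exists_toSec_smul_of_pullSec_eq_zero hsq hB hk M hW s h
  exact ⟨m, hm.symm⟩

theorem divBy_of_app_eq_zero {W : X.Opens} (hW : IsAffineOpen W) (x : Γ(X, W))
    (h : j.app W x = 0) : DivBy ϖ n (Coh.structureModule X) (show Γ(Coh.structureModule X, W) from x) := by
  have hx : x ∈ RingHom.ker (j.app W).hom := h
  rw [Groth.ArtfunDeform.VbLift.ker_app hB hsq ⟨W, hW⟩, hk, Ideal.map_span, Set.image_singleton,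
    Ideal.mem_span_singleton] at hx
  obtain ⟨y, rfl⟩ := hx
  exact ⟨y, rfl⟩

/-- The sections on an affine open cover lifting a basis of the restriction to the thick special
fibre, with their properties. -/
theorem exists_lift_data [IsClosedImmersion j] {ι : Type u} (U : ι → X.Opens)
    (hU : ∀ i, IsAffineOpen (U i)) (hU' : ∀ i k, IsAffineOpen (U i ⊓ U k)) (E : X.Modules)
    [E.IsQuasicoherent] {r : ℕ} {σ : Fin r → Γ((Scheme.Modules.pullback j).obj E, j ⁻¹ᵁ ⊤)}
    (hσ : Basis' ((Scheme.Modules.pullback j).obj E) (j ⁻¹ᵁ ⊤) σ) :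
    ∃ e : Fin r → ∀ i, Γ(E, U i),
      (∀ l i k, DivBy ϖ n E (QCohMod.res E (inf_le_left : U i ⊓ U k ≤ U i) (e l i) -
        QCohMod.res E (inf_le_right : U i ⊓ U k ≤ U k) (e l k))) ∧
      (∀ i (W : X.Opens) (hW : IsAffineOpen W) (hWU : W ≤ U i) (z : Γ(E, W)),
        ∃ cf : Fin r → Γ(X, W), DivBy ϖ n E (z - ∑ l, cf l • QCohMod.res E hWU (e l i))) ∧
      (∀ i k (cf : Fin r → Γ(X, U i ⊓ U k)),
        DivBy ϖ n E (∑ l, cf l • QCohMod.res E (inf_le_left : U i ⊓ U k ≤ U i) (e l i)) →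
        ∀ l, DivBy ϖ n (Coh.structureModule X) (cf l)) := by
  choose e he using fun l i => SpecFerrand.pullSec_surjective j E (hU i)
    (res _ (j.preimage_mono le_top) (σ l))
  have hres : ∀ l i (W : X.Opens) (hWU : W ≤ U i), pullSec j E (QCohMod.res E hWU (e l i)) =
      res _ (j.preimage_mono le_top) (σ l) := fun l i W hWU => by
    rw [show QCohMod.res E hWU (e l i) = res E hWU (e l i) from rfl, ← res_pullSec, he,
      Groth.PicAux.res_res]
  let P : ∀ W : X.Opens, Γ(E, W) →+ Γ((Scheme.Modules.pullback j).obj E, j ⁻¹ᵁ W) := fun W =>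
    (((Scheme.Modules.pullbackPushforwardAdjunction j).unit.app E).app W).hom
  have hP : ∀ (W : X.Opens) (x : Γ(E, W)), P W x = pullSec j E x := fun W x => rfl
  have hsum : ∀ i (W : X.Opens) (hWU : W ≤ U i) (cf : Fin r → Γ(X, W)),
      pullSec j E (∑ l, cf l • QCohMod.res E hWU (e l i)) =
        ∑ l, j.app W (cf l) • res _ (j.preimage_mono (le_top : W ≤ ⊤)) (σ l) := fun i W hWU cf => by
    rw [← hP, map_sum]
    exact Finset.sum_congr rfl fun l _ => by rw [hP, pullSec_smul, hres]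
  refine ⟨e, fun l i k => ?_, fun i W hW hWU z => ?_, fun i k cf hcf l => ?_⟩
  · refine divBy_of_pullSec_eq_zero hsq hB hk E (hU' i k) _ ?_
    rw [← hP, map_sub, hP, hP, hres, hres, sub_self]
  · obtain ⟨c, hc⟩ := (hσ (j ⁻¹ᵁ W) (j.preimage_mono le_top)).2 (pullSec j E z)
    choose cf hcf using fun l => j.app_surjective W hW (c l)
    refine ⟨cf, divBy_of_pullSec_eq_zero hsq hB hk E hW _ ?_⟩
    rw [← hP, map_sub, hP, hP, hsum, sub_eq_zero, ← hc]
    exact Finset.sum_congr rfl fun l _ => by rw [hcf]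
  · obtain ⟨y, hy⟩ := hcf
    have h0 : pullSec j E (∑ l, cf l • QCohMod.res E (inf_le_left : U i ⊓ U k ≤ U i) (e l i)) = 0 := by
      rw [hy, pullSec_smul]
      have : j.app (U i ⊓ U k) (baseApp X (U i ⊓ U k) (ϖ ^ n)) = 0 := by
        have hx : baseApp X (U i ⊓ U k) (ϖ ^ n) ∈ RingHom.ker (j.app (U i ⊓ U k)).hom := by
          rw [Groth.ArtfunDeform.VbLift.ker_app hB hsq ⟨_, hU' i k⟩, hk]
          exact Ideal.mem_map_of_mem _ (Ideal.mem_span_singleton_self _)
        exact hx
      rw [this, zero_smul]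
    rw [hsum] at h0
    have := (hσ (j ⁻¹ᵁ (U i ⊓ U k)) (j.preimage_mono le_top)).1 (a₁ := fun l => j.app _ (cf l))
      (a₂ := 0) (h0.trans (by simp))
    exact divBy_of_app_eq_zero hsq hB hk (hU' i k) _ (congrFun this l)

end Groth.CohC3.Thick
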