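import Groth.Agent.CohC3.Thickening.Lift
import Groth.Agent.CohC3.Thickening.Special
import Groth.Agent.CohC3.Thickening.Generic
import Groth.Agent.CohBase.IsoNearFibre
import Mathlib.AlgebraicGeometry.Geometrically.Connected

/-!
# Modules free on the generic fibre and on a thick special fibre
-/

universe u

open CategoryTheory CategoryTheory.Limits AlgebraicGeometry Opposite TopologicalSpace
open Groth.PicAux (Basis' pullSec res resX homOfSection exists_split_free oneSec)

set_option maxHeartbeats 1600000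
set_option backward.isDefEq.respectTransparency false
set_option backward.defeqAttrib.useBackward true
set_option backward.isDefEq.respectTransparency.types false

namespace Groth.CohC3.Thick

variable {R : Type u} [CommRing R] [IsLocalRing R] {X : Scheme.{u}}
  [X.Over (Spec (CommRingCat.of R))]

local notation "pX" => (X ↘ Spec (CommRingCat.of R))

theorem not_mem_basicOpen_of_special {ϖ : R} (hϖ : ϖ ∈ IsLocalRing.maximalIdeal R) {x : X}
    (hx : (pX).base x = IsLocalRing.closedPoint R) : x ∉ X.basicOpen (baseApp X ⊤ ϖ) := by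
  rw [← preimage_specBasicOpen]
  intro h
  have h' : IsLocalRing.closedPoint R ∈ PrimeSpectrum.basicOpen ϖ := hx ▸ h
  exact h' hϖ

theorem exists_special_mem [UniversallyClosed pX] {Z : Set X} (hZ : IsClosed Z) (hne : Z.Nonempty) :
    ∃ x ∈ Z, (pX).base x = IsLocalRing.closedPoint R := by
  obtain ⟨y, hy⟩ := hne
  exact (IsLocalRing.specializes_closedPoint (R := R) ((pX).base y)).mem_closed
    ((pX).isClosedMap Z hZ) ⟨y, hy, rfl⟩

theorem preconnectedSpace_of_geometricallyConnected [UniversallyClosed pX]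
    [GeometricallyConnected pX] : PreconnectedSpace X := by
  refine preconnectedSpace_iff_clopen.2 fun Z hZ => ?_
  by_contra h
  simp only [not_or] at h
  obtain ⟨x, hxZ, hx⟩ := exists_special_mem (R := R) hZ.1 (Set.nonempty_iff_ne_empty.2 h.1)
  obtain ⟨y, hyZ, hy⟩ := exists_special_mem (R := R) hZ.compl.1
    (Set.nonempty_compl.2 h.2)
  have hpre : _root_.IsPreconnected ((pX).base ⁻¹' {IsLocalRing.closedPoint R}) := by
    rw [← (pX).range_fiberι]
    exact isPreconnected_range ((pX).fiberι _).continuous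
  exact hyZ ((hpre.subset_isClopen hZ ⟨x, hx, hxZ⟩) hy)

/-- A finite locally free module on a connected scheme has constant rank. -/
theorem exists_rank [PreconnectedSpace X] {E : X.Modules} (hE : FlatMod.IsFinLocFree E) (x₀ : X) :
    ∃ r : ℕ, ∀ x : X, ∃ (U : X.Opens) (s : Fin r → Γ(E, U)), x ∈ U ∧ Basis' E U s := by
  choose U n s hxU hs using Groth.PicAux.exists_basis_of_isFinLocFree hE
  refine ⟨n x₀, fun x => ?_⟩
  have hlc : IsLocallyConstant n := by
    refine (IsLocallyConstant.iff_exists_open n).2 fun y => ⟨U y, (U y).2, hxU y, fun z hz => ?_⟩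
    exact Groth.CohBase.rank_eq_of_basis' (x := z) (show z ∈ U z ⊓ U y from ⟨hxU z, hz⟩)
      ((hs z).res' (inf_le_left : U z ⊓ U y ≤ U z)) ((hs y).res' (inf_le_right : U z ⊓ U y ≤ U y))
  rw [hlc.apply_eq_of_preconnectedSpace x₀ x]
  exact ⟨U x, s x, hxU x, hs x⟩

omit [IsLocalRing R] in
theorem exists_free_iso_of_basis {E : X.Modules} {r : ℕ} {t : Fin r → Γ(E, (⊤ : X.Opens))}
    (h : ∀ x : X, ∃ W : X.Opens, x ∈ W ∧ Basis' E W (fun i => res E le_top (t i))) :
    Nonempty (E ≅ FlatMod.freeMod X r) := by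
  obtain ⟨d⟩ := exists_split_free (X := X) r
  let φ : FlatMod.freeMod X r ⟶ E := ∑ i, d.p i ≫ homOfSection (t i)
  have hφ : ∀ k, φ.app ⊤ ((d.s k).app ⊤ (oneSec X ⊤)) = t k := fun k => by
    have : d.s k ≫ φ = homOfSection (t k) := by
      rw [Preadditive.comp_sum, Finset.sum_eq_single k]
      · rw [reassoc_of% d.diag k]
      · intro i _ hik
        rw [reassoc_of% d.off k i (Ne.symm hik)]
        simp
      · simp
    exact (congr(($this).app ⊤ (oneSec X ⊤))).trans (Groth.PicAux.homOfSection_one _)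
  have : IsIso φ := by
    refine SpecFerrand.isIso_of_bases φ fun x => ?_
    obtain ⟨W, hxW, hW⟩ := h x
    refine ⟨W, r, fun k => res _ le_top ((d.s k).app ⊤ (oneSec X ⊤)), hxW,
      d.basis.res' le_top, ?_⟩
    simpa only [Groth.PicAux.app_res, hφ] using hW
  exact ⟨(asIso φ).symm⟩

/-- Freeness from a global family which agrees with lifts of a basis of a thick special fibre
modulo a positive power of `ϖ`. -/
theorem exists_free_iso_of_congr [UniversallyClosed pX] {ϖ : R}
    (hϖ : ϖ ∈ IsLocalRing.maximalIdeal R) {ι : Type u} {U : ι → X.Opens} (hcov : ⨆ i, U i = ⊤)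
    {E : X.Modules} {r : ℕ}
    (hr : ∀ x : X, ∃ (U : X.Opens) (s : Fin r → Γ(E, U)), x ∈ U ∧ Basis' E U s) {n m : ℕ}
    (hn : 1 ≤ n) (hm : 1 ≤ m) {e : Fin r → ∀ i, Γ(E, U i)}
    (hspan : ∀ i (W : X.Opens) (hW : IsAffineOpen W) (hWU : W ≤ U i) (z : Γ(E, W)),
      ∃ cf : Fin r → Γ(X, W), DivBy ϖ n E (z - ∑ l, cf l • QCohMod.res E hWU (e l i)))
    {t : Fin r → Γ(E, (⊤ : X.Opens))}
    (ht : ∀ l i, DivBy ϖ m E (QCohMod.res E le_top (t l) - e l i)) :
    Nonempty (E ≅ FlatMod.freeMod X r) := by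
  refine exists_free_iso_of_basis (t := t) ?_
  let G : Set X := {x | ∃ W : X.Opens, x ∈ W ∧ Basis' E W (fun i => res E le_top (t i))}
  have hG : IsOpen G := isOpen_iff_forall_mem_open.2 fun x ⟨W, hxW, hW⟩ =>
    ⟨W, fun y hy => ⟨W, hy, hW⟩, W.2, hxW⟩
  suffices Gᶜ = ∅ from fun x => by_contra fun hx => (this ▸ hx : x ∈ (∅ : Set X)).elim
  by_contra hne
  obtain ⟨x, hx, hxs⟩ := exists_special_mem (R := R) hG.isClosed_compl
    (Set.nonempty_iff_ne_empty.2 hne)
  refine hx ?_
  obtain ⟨i, hxi⟩ := Opens.mem_iSup.1 (hcov.ge (Opens.mem_top x))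
  obtain ⟨V, s, hxV, hs⟩ := hr x
  obtain ⟨W, hW, hxW, hWV⟩ := exists_isAffineOpen_mem_and_subset (U := V ⊓ U i) (x := x) ⟨hxV, hxi⟩
  have hWV' : W ≤ V := fun y hy => (hWV hy).1
  have hWU : W ≤ U i := fun y hy => (hWV hy).2
  have hsW := hs.res' hWV'
  set sW : Fin r → Γ(E, W) := fun l => res E hWV' (s l) with hsWdef
  set tW : Fin r → Γ(E, W) := fun l => QCohMod.res E le_top (t l) with htWdef
  let b := baseApp (A := R) X W
  choose cf hcf using fun l => hspan i W hW hWU (sW l)
  choose w hw using hcf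
  choose y hy using fun l => (ht l i).res hWU
  have coef : ∀ z : Γ(E, W), ∃ a : Fin r → Γ(X, W), ∑ k, a k • sW k = z := fun z => by
    obtain ⟨a, ha⟩ := (hsW W le_rfl).2 z
    exact ⟨a, by simpa only [Groth.PicAux.res_self] using ha⟩
  choose A hA using fun l => coef (tW l)
  choose D hD using fun l => coef (b (ϖ ^ (n - 1)) • w l -
    ∑ k, cf l k • (b (ϖ ^ (m - 1)) • y k))
  have key : ∀ l, sW l = ∑ k, cf l k • tW k + b ϖ • (b (ϖ ^ (n - 1)) • w l -
      ∑ k, cf l k • (b (ϖ ^ (m - 1)) • y k)) := fun l => by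
    have hy' : ∀ k, QCohMod.res E hWU (e k i) = tW k - b (ϖ ^ m) • y k := fun k => by
      rw [← hy k, map_sub, QCohMod.res_res, sub_sub_cancel]
    have h1 := hw l
    simp only [hy', smul_sub, Finset.sum_sub_distrib] at h1
    rw [smul_sub, Finset.smul_sum, ← mul_smul, ← map_mul, ← pow_succ', Nat.sub_add_cancel hn, ← h1]
    have h2 : ∀ k, b ϖ • cf l k • b (ϖ ^ (m - 1)) • y k = cf l k • b (ϖ ^ m) • y k := fun k => by
      rw [smul_comm (b ϖ), ← mul_smul (b ϖ), ← map_mul, ← pow_succ', Nat.sub_add_cancel hm]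
    simp only [h2]
    abel
  have hmat : ∀ l k', (Pi.single l (1 : Γ(X, W)) : Fin r → Γ(X, W)) k' =
      ∑ k, cf l k * A k k' + b ϖ * D l k' := fun l => by
    refine congrFun ((hsW W le_rfl).1 ?_)
    simp only [Groth.PicAux.res_self]
    rw [Finset.sum_eq_single l (fun k _ hk => by simp [Pi.single_eq_of_ne hk]) (by simp),
      Pi.single_eq_same, one_smul]
    refine (key l).trans ?_
    simp only [add_smul, Finset.sum_add_distrib, Finset.sum_smul, mul_smul]
    rw [Finset.sum_comm, ← hD l, Finset.smul_sum]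
    refine congrArg (· + _) (Finset.sum_congr rfl fun k _ => ?_)
    rw [← hA k, Finset.smul_sum]
  let φ := (X.evaluation W x hxW).hom
  have hφ : φ (b ϖ) = 0 := by
    refine (X.evaluation_eq_zero_iff_notMem_basicOpen x hxW _).2 fun h => ?_
    refine not_mem_basicOpen_of_special hϖ hxs ?_
    rw [← baseApp_res (le_top : W ≤ ⊤) ϖ, QCohMod.resFun, Scheme.basicOpen_res] at h
    exact h.2
  have hCA : φ.mapMatrix (Matrix.of cf) * φ.mapMatrix (Matrix.of A) = 1 := by
    ext l k'
    have := congrArg φ (hmat l k')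
    simp only [map_add, map_mul, map_sum, hφ, zero_mul, add_zero] at this
    rw [Matrix.mul_apply]
    refine this.symm.trans ?_
    by_cases h : l = k'
    · subst h; simp
    · simp [Matrix.one_apply_ne h, Pi.single_eq_of_ne (Ne.symm h)]
  have hdet : φ (Matrix.det (Matrix.of A)) ≠ 0 := by
    rw [RingHom.map_det]
    intro h0
    have := congrArg Matrix.det hCA
    rw [Matrix.det_mul, h0, mul_zero, Matrix.det_one] at this
    exact zero_ne_one this
  have hb := SpecFerrand.basis_det hsW (Matrix.of A) (t := tW) fun k => (hA k).symm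
  refine ⟨_, (X.evaluation_ne_zero_iff_mem_basicOpen x hxW _).1 hdet, ?_⟩
  convert hb using 2 with l
  exact (Groth.PicAux.res_res (M := E) _ _ _).symm

end Groth.CohC3.Thick
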