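import Groth.Agent.CohC3.PushFF
import Groth.Agent.LocFree.Affine

/-!
# Sections modulo powers of a base element on a proper scheme
-/

universe u

open CategoryTheory CategoryTheory.Limits AlgebraicGeometry Opposite TopologicalSpace

set_option maxHeartbeats 800000
set_option backward.isDefEq.respectTransparency false
set_option backward.defeqAttrib.useBackward true
set_option backward.isDefEq.respectTransparency.types false

namespace Groth.CohC3.Thick

variable {R : Type u} [CommRing R] {X : Scheme.{u}} [X.Over (Spec (CommRingCat.of R))] (ϖ : R)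

/-- Divisibility of a section by a power of `ϖ`. -/
def DivBy (n : ℕ) (M : X.Modules) {U : X.Opens} (x : Γ(M, U)) : Prop :=
  ∃ y : Γ(M, U), x = baseApp X U (ϖ ^ n) • y

variable {ϖ}

lemma DivBy.res {n : ℕ} {M : X.Modules} {U V : X.Opens} {x : Γ(M, U)} (h : DivBy ϖ n M x)
    (hVU : V ≤ U) : DivBy ϖ n M (QCohMod.res M hVU x) := by
  obtain ⟨y, rfl⟩ := h
  exact ⟨QCohMod.res M hVU y, by rw [QCohMod.res_smul, baseApp_res]⟩

lemma DivBy.add {n : ℕ} {M : X.Modules} {U : X.Opens} {x y : Γ(M, U)} (h : DivBy ϖ n M x)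
    (h' : DivBy ϖ n M y) : DivBy ϖ n M (x + y) := by
  obtain ⟨a, rfl⟩ := h
  obtain ⟨b, rfl⟩ := h'
  exact ⟨a + b, (smul_add _ _ _).symm⟩

lemma DivBy.smul {n : ℕ} {M : X.Modules} {U : X.Opens} {x : Γ(M, U)} (h : DivBy ϖ n M x)
    (r : Γ(X, U)) : DivBy ϖ n M (r • x) := by
  obtain ⟨y, rfl⟩ := h
  exact ⟨r • y, smul_comm _ _ _⟩

lemma DivBy.zero (n : ℕ) (M : X.Modules) (U : X.Opens) : DivBy ϖ n M (0 : Γ(M, U)) :=
  ⟨0, (smul_zero _).symm⟩

lemma DivBy.mono {n m : ℕ} (h : m ≤ n) {M : X.Modules} {U : X.Opens} {x : Γ(M, U)}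
    (hx : DivBy ϖ n M x) : DivBy ϖ m M x := by
  obtain ⟨y, rfl⟩ := hx
  exact ⟨baseApp X U (ϖ ^ (n - m)) • y, by rw [← mul_smul, ← map_mul, ← pow_add,
    Nat.add_sub_cancel' h]⟩

lemma modPowπ_app_eq_zero_iff (M : X.Modules) [M.IsQuasicoherent] (n : ℕ) {U : X.Opens}
    (hU : IsAffineOpen U) (x : Γ(M, U)) :
    (Formal.modPowπ (Ideal.span {ϖ}) n M).app U x = 0 ↔ DivBy ϖ n M x := by
  rw [(isQuot_modPowπ (Ideal.span {ϖ}) n M).app_eq_zero_iff x hU, Ideal.span_singleton_pow,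
    Ideal.map_span, Set.image_singleton, Submodule.ideal_span_singleton_smul,
    Submodule.mem_smul_pointwise_iff_exists]
  exact ⟨fun ⟨y, _, h⟩ => ⟨y, h.symm⟩, fun ⟨y, h⟩ => ⟨y, trivial, h.symm⟩⟩

variable {J : Type*} (U : J → X.Opens)

omit [X.Over (Spec (CommRingCat.of R))] in
/-- Sections glue. -/
theorem exists_glue (hcov : ⨆ i, U i = ⊤) (M : X.Modules) (z : ∀ i, Γ(M, U i))
    (hz : ∀ i k, QCohMod.res M (inf_le_left : U i ⊓ U k ≤ U i) (z i) =
      QCohMod.res M (inf_le_right : U i ⊓ U k ≤ U k) (z k)) :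
    ∃ s : Γ(M, (⊤ : X.Opens)), ∀ i, QCohMod.res M le_top s = z i := by
  obtain ⟨s, hs, -⟩ := TopCat.Sheaf.existsUnique_gluing' ⟨M.presheaf, M.isSheaf⟩ U ⊤
    (fun i => homOfLE le_top) hcov.ge z hz
  exact ⟨s, hs⟩

variable [IsNoetherianRing R] [IsProper (X ↘ Spec (CommRingCat.of R))]

variable (ϖ) in
/-- Global sections of the structure sheaf modulo high powers lift up to a bounded multiple. -/
theorem exists_lift_bound (hU : ∀ i, IsAffineOpen (U i))
    (hU' : ∀ i k, IsAffineOpen (U i ⊓ U k)) (hcov : ⨆ i, U i = ⊤) :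
    ∃ c, ∀ (n : ℕ) (x : ∀ i, Γ(Coh.structureModule X, U i)),
      (∀ i k, DivBy ϖ n (Coh.structureModule X) (QCohMod.res _ (inf_le_left : U i ⊓ U k ≤ U i) (x i) -
        QCohMod.res _ (inf_le_right : U i ⊓ U k ≤ U k) (x k))) →
      ∃ s : Γ(Coh.structureModule X, (⊤ : X.Opens)), ∀ i, DivBy ϖ n (Coh.structureModule X)
        (QCohMod.res _ le_top s - baseApp X (U i) (ϖ ^ c) • x i) := by
  let O := Coh.structureModule X
  have : AlgebraicGeometry.IsNoetherian X := isNoetherian_of_proper R X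
  have hO : Coh.IsCoh O := Groth.QCohMod.isCoh_unit
  have := hO.1
  letI : (Spec (CommRingCat.of R)).Over (Spec (CommRingCat.of R)) := ⟨𝟙 _⟩
  obtain ⟨-, c, -, hc⟩ := exists_push_bounds (A := R) (J := Ideal.span {ϖ})
    (X ↘ Spec (CommRingCat.of R)) (Category.comp_id _) hO
    (U := ⊤) (isAffineOpen_top _)
  refine ⟨c, fun n x hx => ?_⟩
  let π := Formal.modPowπ (Ideal.span {ϖ}) (n + c) O
  obtain ⟨z, hz⟩ := exists_glue U hcov _ (fun i => π.app (U i) (baseApp X (U i) (ϖ ^ c) • x i))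
    fun i k => by
      rw [QCohMod.res_app π, QCohMod.res_app π, ← sub_eq_zero, ← map_sub,
        modPowπ_app_eq_zero_iff O (n + c) (hU' i k), QCohMod.res_smul, QCohMod.res_smul,
        baseApp_res, baseApp_res, ← smul_sub]
      obtain ⟨y, hy⟩ := hx i k
      exact ⟨y, by rw [hy, ← mul_smul, ← map_mul, ← pow_add, add_comm c n]⟩
  obtain ⟨s, hs⟩ := hc n (show Γ(Formal.modPow (Ideal.span {ϖ}) (n + c) O, (X ↘ Spec (CommRingCat.of R)) ⁻¹ᵁ ⊤) from z)
  refine ⟨s, fun i => (modPowπ_app_eq_zero_iff O n (hU i) _).1 ?_⟩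
  rw [map_sub, sub_eq_zero, ← QCohMod.res_app]
  refine (congrArg (QCohMod.res _ le_top) hs).trans ?_
  refine ((QCohMod.res_app _ le_top _).trans (congrArg _ (hz i))).trans ?_
  exact congr(($(modPowπ_qTr O (Ideal.pow_le_pow_right (Nat.le_add_right n c) :
    Ideal.span {ϖ} ^ (n + c) ≤ Ideal.span {ϖ} ^ n))).app (U i) _)

end Groth.CohC3.Thick
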